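import Groth.Agent.MultTypeLib.Normal.GenericSplit
import Mathlib.RingTheory.Etale.Field
import Mathlib.RingTheory.Etale.Pi
import Mathlib.RingTheory.Etale.Descent
import Mathlib.RingTheory.Finiteness.Descent
import Mathlib.FieldTheory.Fixed
import Mathlib.LinearAlgebra.Matrix.NonsingularInverse

/-!
# The integral closure in a field which is split by a faithfully flat etale algebra

Let `R` be integrally closed with fraction field `K`, `S` faithfully flat etale over `R` and `L` a finite separable
extension of `K` with as many embeddings as its degree into every residue field of the generic fibre of `S`. Then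
the integral closure of `R` in `L` is finite etale over `R`: it becomes `Sⁿ` over `S`.
-/

universe u

open TensorProduct

noncomputable section

namespace Groth.Agent.MultTypeLib

set_option maxHeartbeats 1000000
set_option synthInstance.maxHeartbeats 100000

/-- The extension of embeddings is bijective. -/
theorem bijective_lift_of_card {K : Type u} [Field K] (T : Type u) [CommRing T] [Algebra K T] [Algebra.Etale K T]
    (L : Type u) [Field L] [Algebra K L] [Module.Finite K L]
    (hcard : ∀ (E : Type u) [Field E] [Algebra K E] [Module.Finite K E], Nonempty (T →ₐ[K] E) →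
      Nat.card (L →ₐ[K] E) = Module.finrank K L) :
    ∃ φ : Fin (Module.finrank K L) → (L →ₐ[K] T),
      Function.Bijective (Algebra.TensorProduct.lift (Algebra.ofId T (Fin (Module.finrank K L) → T))
        (Pi.algHom K (fun _ : Fin (Module.finrank K L) => T) φ) fun _ _ => Commute.all _ _) := by
  classical
  obtain ⟨I, hI, E, iF, iA, e, hE⟩ := (Algebra.Etale.iff_exists_algEquiv_prod K T).mp ‹_›
  set n := Module.finrank K L
  have hc : ∀ i, Nat.card (L →ₐ[K] E i) = n := fun i =>
    haveI := (hE i).1
    hcard (E i) ⟨(Pi.evalAlgHom K E i).comp e.toAlgHom⟩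
  let eq : ∀ i, (L →ₐ[K] E i) ≃ Fin n := fun i => (Finite.equivFinOfCardEq (hc i))
  let φ : Fin n → (L →ₐ[K] T) := fun k => e.symm.toAlgHom.comp (Pi.algHom K E fun i => (eq i).symm k)
  refine ⟨φ, ?_⟩
  set Ψ := Algebra.TensorProduct.lift (Algebra.ofId T (Fin n → T))
    (Pi.algHom K (fun _ : Fin n => T) φ) fun _ _ => Commute.all _ _
  let b : Module.Basis (Fin n) K L := Module.finBasis K L
  let bT := Algebra.TensorProduct.basis T b
  let M : Matrix (Fin n) (Fin n) T := Matrix.of fun k j => φ k (b j)
  have hM : IsUnit M := by
    rw [Matrix.isUnit_iff_isUnit_det, ← isUnit_map_iff e, Pi.isUnit_iff]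
    intro i
    have hdet : e M.det i = (Matrix.of fun k j => ((eq i).symm k) (b j)).det := by
      rw [show e M.det i = ((Pi.evalAlgHom K E i).comp e.toAlgHom).toRingHom M.det from rfl, RingHom.map_det]
      congr 1
      ext k j
      simp [M, φ]
    rw [hdet, ← Matrix.isUnit_iff_isUnit_det, ← Matrix.linearIndependent_rows_iff_isUnit,
      Fintype.linearIndependent_iff]
    intro g hg
    have hli := (linearIndependent_toLinearMap K L (E i)).comp (eq i).symm (eq i).symm.injective
    refine Fintype.linearIndependent_iff.mp hli g ?_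
    refine b.ext fun j => ?_
    have h := congrFun hg j
    simpa [Finset.sum_apply] using h
  have hΨ : ⇑Ψ = fun x => M.mulVec (bT.equivFun x) := by
    funext x k
    conv_lhs => rw [← bT.sum_equivFun x]
    rw [map_sum, Finset.sum_apply, Matrix.mulVec, dotProduct]
    refine Finset.sum_congr rfl fun j _ => ?_
    rw [map_smul, Pi.smul_apply, smul_eq_mul, _root_.mul_comm]
    simp [Ψ, bT, M, Algebra.TensorProduct.basis_apply]
  rw [hΨ]
  exact (show Function.Bijective M.mulVec from ⟨Matrix.mulVec_injective_of_isUnit hM,
    (Matrix.mulVec_surjective_iff_isUnit.mpr hM)⟩).comp bT.equivFun.bijective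

variable {R : Type u} [CommRing R] [IsDomain R] [IsIntegrallyClosed R]
  (K : Type u) [Field K] [Algebra R K] [IsFractionRing R K]

/-- The integral closure in a field split by a faithfully flat etale algebra is finite etale. -/
theorem etale_integralClosure (S : Type u) [CommRing S] [Algebra R S] [Algebra.Etale R S]
    [Module.FaithfullyFlat R S] (L : Type u) [Field L] [Algebra K L] [Algebra R L] [IsScalarTower R K L]
    [Module.Finite K L]
    (hcard : ∀ (E : Type u) [Field E] [Algebra K E] [Algebra R E] [IsScalarTower R K E] [Module.Finite K E],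
      Nonempty (S →ₐ[R] E) → Nat.card (L →ₐ[K] E) = Module.finrank K L) :
    Algebra.Etale R (integralClosure R L) ∧ Module.Finite R (integralClosure R L) := by
  classical
  haveI : Module.Flat R K := IsLocalization.flat K (nonZeroDivisors R)
  let T := K ⊗[R] S
  letI : Algebra S T := Algebra.TensorProduct.rightAlgebra
  set n := Module.finrank K L
  obtain ⟨φ, hφ⟩ := bijective_lift_of_card (K := K) T L fun E _ _ _ hE => by
    letI : Algebra R E := ((algebraMap K E).comp (algebraMap R K)).toAlgebra
    haveI : IsScalarTower R K E := IsScalarTower.of_algebraMap_eq fun _ => rfl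
    obtain ⟨g⟩ := hE
    exact hcard E ⟨(g.restrictScalars R).comp Algebra.TensorProduct.includeRight⟩
  -- the map into the product
  let Ψ : S ⊗[R] L →ₐ[S] (Fin n → T) := Algebra.TensorProduct.lift (Algebra.ofId S (Fin n → T))
    ((Pi.algHom K (fun _ : Fin n => T) φ).restrictScalars R) fun _ _ => Commute.all _ _
  have hΨ : Function.Bijective Ψ := by
    let e0 : S ⊗[R] L ≃ₗ[R] T ⊗[K] L :=
      (TensorProduct.comm R S L).trans (((AlgebraTensorModule.cancelBaseChange R K K L S).symm.restrictScalars R).trans
        ((TensorProduct.comm K L T).restrictScalars R))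
    have e : ⇑Ψ = (Algebra.TensorProduct.lift (Algebra.ofId T (Fin n → T))
        (Pi.algHom K (fun _ : Fin n => T) φ) fun _ _ => Commute.all _ _) ∘ e0 := by
      funext x
      induction x using TensorProduct.induction_on with
      | zero => simp
      | add p q hp hq => simp only [Function.comp_apply] at hp hq ⊢; simp only [map_add, hp, hq]
      | tmul s l =>
        have h0 : e0 (s ⊗ₜ[R] l) = ((1 : K) ⊗ₜ[R] s : T) ⊗ₜ[K] l := by simp [e0]
        funext k
        simp only [Function.comp_apply, h0, Ψ, Algebra.TensorProduct.lift_tmul, Pi.mul_apply]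
        rfl
    rw [e]
    exact hφ.comp e0.bijective
  let Θ : (Fin n → S) →ₐ[S] (Fin n → T) := (Algebra.ofId S T).compLeft (Fin n)
  have hΘ : Function.Injective Θ := by
    intro v w h
    funext k
    have h1 : (1 : K) ⊗ₜ[R] v k = (1 : K) ⊗ₜ[R] w k := congrFun h k
    have hinj := Module.Flat.rTensor_preserves_injective_linearMap (M := S)
      (Algebra.linearMap R K) (IsFractionRing.injective R K)
    refine (TensorProduct.lid R S).symm.injective (hinj ?_)
    simpa using h1
  let g : S ⊗[R] integralClosure R L →ₐ[S] (Fin n → T) :=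
    Ψ.comp ((integralClosure S (S ⊗[R] L)).val.comp (TensorProduct.toIntegralClosure R S L))
  have hg : Function.Injective g :=
    hΨ.1.comp (Subtype.val_injective.comp
      (TensorProduct.toIntegralClosure_injective_of_flat (R := R) (S := S) (B := L)))
  have hrange : g.range = Θ.range := by
    refine le_antisymm ?_ ?_
    · rintro _ ⟨x, rfl⟩
      have hint : IsIntegral S (g x) :=
        IsIntegral.map Ψ (TensorProduct.toIntegralClosure R S L x).2
      have hex : ∀ k, ∃ s : S, algebraMap S T s = g x k := fun k => by
        obtain ⟨s, hs⟩ := mem_range_of_isIntegral K S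
          ((hint.map (Pi.evalAlgHom S (fun _ : Fin n => T) k)).map (Algebra.TensorProduct.commRight R S K).symm)
        exact ⟨s, (Algebra.TensorProduct.commRight R S K).symm.injective (by
          rw [show (Pi.evalAlgHom S (fun _ : Fin n => T) k) (g x) = g x k from rfl] at hs
          rw [AlgEquiv.commutes, ← hs]
          rfl)⟩
      choose v hv using hex
      exact ⟨v, funext hv⟩
    · rintro _ ⟨v, rfl⟩
      obtain ⟨y, hy⟩ := hΨ.2 (Θ v)
      have hv : IsIntegral S (Θ v) := IsIntegral.map Θ (Algebra.IsIntegral.isIntegral (R := S) v)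
      have hint : IsIntegral S y := (isIntegral_algHom_iff Ψ hΨ.1).mp (by rw [hy]; exact hv)
      obtain ⟨x, hx⟩ := (TensorProduct.toIntegralClosure_bijective_of_smooth (R := R) (S := S) (B := L)).2 ⟨y, hint⟩
      exact ⟨x, by
        show Ψ ((TensorProduct.toIntegralClosure R S L x : S ⊗[R] L)) = Θ v
        rw [hx, hy]⟩
  let E : S ⊗[R] integralClosure R L ≃ₐ[S] (Fin n → S) :=
    ((AlgEquiv.ofInjective g hg).trans (Subalgebra.equivOfEq _ _ hrange)).trans (AlgEquiv.ofInjective Θ hΘ).symm
  haveI : Algebra.Etale S (S ⊗[R] integralClosure R L) := Algebra.Etale.of_equiv E.symm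
  haveI : Module.Finite S (S ⊗[R] integralClosure R L) := Module.Finite.equiv E.symm.toLinearEquiv
  exact ⟨Algebra.Etale.of_etale_tensorProduct_of_faithfullyFlat S,
    Module.Finite.of_finite_tensorProduct_of_faithfullyFlat S⟩

end Groth.Agent.MultTypeLib
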