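import Groth.Agent.MultTypeLib.CompleteHom
import Groth.Agent.MultTypeLib.Local
import Mathlib.RingTheory.Etale.Basic

/-!
# An etale cover by splittings of a quasi-isotrivial group
-/

universe u

open TensorProduct

noncomputable section

namespace Groth.Agent.MultTypeLib

set_option maxHeartbeats 1000000
set_option synthInstance.maxHeartbeats 100000

variable {R : Type u} [CommRing R] {A : Type u} [CommRing A] [HopfAlgebra R A]

/-- A quasi-isotrivial group has a finite etale cover by splittings. -/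
theorem exists_etale_cover (h : SGA3b.IsQuasiIsotrivial R A) :
    ∃ c : Cover R A, (∀ i, Algebra.Etale R (c.split i).S) ∧
      ∀ i, SGA3b.IsDiag (c.split i).S ((c.split i).S ⊗[R] A) := by
  classical
  obtain ⟨s, hs, hA⟩ := h
  obtain ⟨t, hts, ht⟩ := Submodule.mem_span_finite_of_mem_span (hs ▸ Submodule.mem_top : (1 : R) ∈ Ideal.span s)
  have hP : ∀ f : (t : Finset R), ∃ P : Split R A, Algebra.Etale R P.S ∧ SGA3b.IsDiag P.S (P.S ⊗[R] A) ∧
      ∀ p : Ideal R, p.IsPrime → f.1 ∉ p → ∃ q : Ideal P.S, q.IsPrime ∧ q.comap (algebraMap R P.S) = p := by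
    intro f
    obtain ⟨S, _, _, het, hff, hd⟩ := hA f.1 (hts f.2)
    let Rf := Localization.Away f.1
    let _ : Algebra R S := ((algebraMap Rf S).comp (algebraMap R Rf)).toAlgebra
    have : IsScalarTower R Rf S := IsScalarTower.of_algebraMap_eq fun _ => rfl
    haveI : Algebra.Etale R Rf := Algebra.Etale.of_isLocalizationAway f.1
    haveI : Algebra.Etale R S := Algebra.Etale.comp R Rf S
    have hd' : SGA3b.IsDiag S (S ⊗[R] A) := isDiag_congr (baseChangeTrans (R := R) Rf S A).symm hd
    obtain ⟨M, _, hom, e, he⟩ := exists_split_of_isDiag S hd'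
    refine ⟨{ S := S, M := M, hom := hom, equiv := e, equiv_tmul := he }, ‹_›, hd', fun p hp hfp => ?_⟩
    have hdis : Disjoint (Submonoid.powers f.1 : Set R) (p : Set R) := by
      rw [Set.disjoint_left]
      rintro x ⟨n, rfl⟩ hx
      exact hfp (hp.mem_of_pow_mem n hx)
    let q : PrimeSpectrum Rf := ⟨_, IsLocalization.isPrime_of_isPrime_disjoint _ _ p hp hdis⟩
    obtain ⟨r, hr⟩ := PrimeSpectrum.comap_surjective_of_faithfullyFlat (A := Rf) (B := S) q
    refine ⟨r.asIdeal, r.2, ?_⟩
    show r.asIdeal.comap ((algebraMap Rf S).comp (algebraMap R Rf)) = p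
    rw [← Ideal.comap_comap, show r.asIdeal.comap (algebraMap Rf S) = q.asIdeal from congrArg PrimeSpectrum.asIdeal hr]
    exact IsLocalization.under_map_of_isPrime_disjoint (Submonoid.powers f.1) Rf hp hdis
  choose P hP1 hP2 hP3 using hP
  refine ⟨⟨(t : Finset R), P, fun p hp => ?_⟩, hP1, hP2⟩
  obtain ⟨f, hft, hfp⟩ : ∃ f ∈ t, f ∉ p := by
    by_contra hne
    push Not at hne
    exact hp.ne_top (p.eq_top_iff_one.mpr (Submodule.span_le.mpr hne ht))
  exact ⟨⟨f, hft⟩, hP3 ⟨f, hft⟩ p hp hfp⟩

/-- A homomorphism from a finite product to a field factors through a factor. -/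
theorem exists_hom_factor {ι : Type u} [Finite ι] (S : ι → Type u) [∀ i, CommRing (S i)] [∀ i, Algebra R (S i)]
    {E : Type u} [Field E] [Algebra R E] (ψ : (∀ i, S i) →ₐ[R] E) : ∃ i, Nonempty (S i →ₐ[R] E) := by
  classical
  haveI := Fintype.ofFinite ι
  have hsum : ∑ i, ψ (Pi.single i 1) = 1 := by
    rw [← map_sum, show (∑ i, Pi.single i (1 : S i)) = (1 : ∀ i, S i) from
      Finset.univ_sum_single (1 : ∀ i, S i), map_one]
  obtain ⟨i, -, hi⟩ : ∃ i ∈ Finset.univ, ψ (Pi.single i 1) ≠ 0 := by
    by_contra! h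
    rw [Finset.sum_eq_zero h] at hsum
    exact zero_ne_one hsum
  have h1 : ψ (Pi.single i 1) = 1 :=
    (IsIdempotentElem.iff_eq_zero_or_one.mp (show IsIdempotentElem (ψ (Pi.single i 1)) by
      rw [IsIdempotentElem, ← map_mul, ← Pi.single_mul, _root_.mul_one])).resolve_left hi
  have hadd : ∀ x y : S i, (Pi.single i (x + y) : ∀ i, S i) = Pi.single i x + Pi.single i y := Pi.single_add i
  exact ⟨i, ⟨{
    toFun := fun s => ψ (Pi.single i s)
    map_one' := h1
    map_mul' := fun x y => by rw [Pi.single_mul, map_mul]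
    map_zero' := by rw [Pi.single_zero, map_zero]
    map_add' := fun x y => by rw [hadd, map_add]
    commutes' := fun r => by
      show ψ (Pi.single i (algebraMap R (S i) r)) = algebraMap R E r
      rw [show (Pi.single i (algebraMap R (S i) r) : ∀ i, S i) =
        Pi.single i 1 * algebraMap R (∀ i, S i) r by
          funext j
          rcases eq_or_ne j i with rfl | hj
          · simp
          · simp [Pi.single_eq_of_ne hj], map_mul, h1, _root_.one_mul, AlgHom.commutes] }⟩⟩

end Groth.Agent.MultTypeLib
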