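import Groth.Agent.MultTypeLib.Coord
import Groth.Agent.MultTypeLib.Local
import Groth.Agent.MultTypeLib.QuasiBasics
import Groth.Agent.MultTypeLib.CompleteHom
import Mathlib.RingTheory.Smooth.IntegralClosure
import Mathlib.RingTheory.IntegralClosure.IntegrallyClosed
import Mathlib.RingTheory.Etale.Basic

/-!
# A group of multiplicative type over an integrally closed domain which is generically diagonalisable

If `R` is integrally closed with fraction field `K` and `S` is smooth over `R`, then the idempotents of `S ⊗ K`
come from `S`; hence group-like elements of group algebras over `S ⊗ K` come from `S`, and diagonalisability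
extends from `K` to `R`.
-/

universe u

open WithConv TensorProduct Coalgebra Bialgebra

noncomputable section

namespace Groth.Agent.MultTypeLib

set_option maxHeartbeats 1000000
set_option synthInstance.maxHeartbeats 100000

variable {R : Type u} [CommRing R] [IsDomain R] [IsIntegrallyClosed R]
  (K : Type u) [Field K] [Algebra R K] [IsFractionRing R K]

/-- Integral elements of the generic fibre of a smooth algebra come from the algebra. -/
theorem mem_range_of_isIntegral (S : Type u) [CommRing S] [Algebra R S] [Algebra.Smooth R S]
    {x : S ⊗[R] K} (hx : IsIntegral S x) : ∃ s : S, s ⊗ₜ[R] (1 : K) = x := by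
  obtain ⟨y, hy⟩ := (TensorProduct.toIntegralClosure_bijective_of_smooth (R := R) (S := S) (B := K)).2 ⟨x, hx⟩
  have hy' : Algebra.TensorProduct.map (AlgHom.id S S) (integralClosure R K).val y = x := congrArg Subtype.val hy
  rw [← hy']
  clear hy hy'
  induction y using TensorProduct.induction_on with
  | zero => exact ⟨0, by simp⟩
  | add a b ha hb =>
    obtain ⟨s, hs⟩ := ha
    obtain ⟨t, ht⟩ := hb
    exact ⟨s + t, by rw [TensorProduct.add_tmul, hs, ht, map_add]⟩
  | tmul s b =>
    obtain ⟨r, hr⟩ := IsIntegrallyClosed.isIntegral_iff.mp (b.2 :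
      IsIntegral R (b : K))
    refine ⟨r • s, ?_⟩
    rw [Algebra.TensorProduct.map_tmul, AlgHom.id_apply, Subalgebra.coe_val, ← hr, TensorProduct.smul_tmul,
      ← Algebra.algebraMap_eq_smul_one]

/-- An idempotent is integral. -/
theorem isIntegral_of_idem (S : Type u) [CommRing S] {T : Type u} [CommRing T] [Algebra S T] {x : T}
    (hx : IsIdempotentElem x) : IsIntegral S x :=
  ⟨Polynomial.X ^ 2 - Polynomial.X, Polynomial.monic_X_pow_sub (Polynomial.degree_X_le.trans_lt (by norm_num)), by simp [pow_two, hx.eq]⟩

/-- A group-like element over the generic fibre of a smooth algebra has coefficients in the algebra. -/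
theorem exists_evalAt_eq {M : Type u} [CommGroup M] (S : Type u) [CommRing S] [Algebra R S] [Algebra.Smooth R S]
    {x : MonoidAlgebra (S ⊗[R] K) M} (hx : IsGroupLikeElem (S ⊗[R] K) x) :
    ∃ v : MonoidAlgebra S M, evalAt (algebraMap S (S ⊗[R] K)) v = x := by
  classical
  choose s hs using fun m => mem_range_of_isIntegral K S (isIntegral_of_idem S (groupLike_idem hx m))
  refine ⟨∑ m ∈ x.coeff.support, MonoidAlgebra.single m (s m), ?_⟩
  rw [map_sum]
  conv_rhs => rw [← MonoidAlgebra.sum_coeff_single x, Finsupp.sum]
  refine Finset.sum_congr rfl fun m _ => ?_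
  rw [evalAt_single, ← hs m]
  rfl

variable {A : Type u} [CommRing A] [HopfAlgebra R A]

/-- A cover by smooth splittings and a diagonal generic fibre give diagonalisability. -/
theorem isDiag_of_generic (c : Cover R A) [∀ i, Algebra.Smooth R (c.split i).S] [Module.Flat R A]
    (hK : SGA3b.IsDiag K (K ⊗[R] A)) : SGA3b.IsDiag R A := by
  classical
  haveI : Module.Flat R K := IsLocalization.flat K (nonZeroDivisors R)
  obtain ⟨M, _, homK, eK, heK⟩ := exists_split_of_isDiag K hK
  let PK : Split R A := { S := K, M := M, hom := homK, equiv := eK, equiv_tmul := heK }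
  let T : c.ι → Type u := fun i => (c.split i).S ⊗[R] K
  let jl : ∀ i, (c.split i).S →ₐ[R] T i := fun i => Algebra.TensorProduct.includeLeft
  let jr : ∀ i, PK.S →ₐ[R] T i := fun i => Algebra.TensorProduct.includeRight
  have hjlinj : ∀ i, Function.Injective (jl i) := fun i s s' h => by
    have hinj := Module.Flat.lTensor_preserves_injective_linearMap (M := (c.split i).S)
      (Algebra.linearMap R K) (IsFractionRing.injective R K)
    have e : ∀ s : (c.split i).S, LinearMap.lTensor (c.split i).S (Algebra.linearMap R K) (s ⊗ₜ (1 : R)) =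
        s ⊗ₜ[R] (1 : K) := fun s => by simp
    exact (TensorProduct.rid R (c.split i).S).symm.injective
      (by simpa using hinj ((e s).trans (h.trans (e s').symm)))
  have hev : ∀ i (N : Type u) [CommGroup N],
      Function.Injective (evalAt (M := N) (jl i : (c.split i).S →+* T i)) := fun i N _ x y h => by
    ext m
    exact hjlinj i (by simpa [coeff_evalAt] using congrArg (fun z => z.coeff m) h)
  -- the inclusion into the generic fibre
  let ι : A →ₗ[R] K ⊗[R] A := TensorProduct.mk R K A 1
  have hι : Function.Injective ι := fun a b h => by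
    have hinj := Module.Flat.rTensor_preserves_injective_linearMap (M := A)
      (Algebra.linearMap R K) (IsFractionRing.injective R K)
    refine (TensorProduct.lid R A).symm.injective (hinj ?_)
    simpa [ι] using h
  -- the characters come from `A`
  have hmem : ∀ m, PK.char m ∈ LinearMap.range ι := by
    intro m
    refine c.mem_of_forall _ _ fun i => ?_
    let P := c.split i
    have hgl : IsGroupLikeElem (T i) (P.coordAt (jl i) (mA A (jr i) (PK.char m))) :=
      (isGroupLike_mA (jr i) (PK.isGroupLike_char m)).map (P.coordAt (jl i))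
    obtain ⟨v, hv⟩ := exists_evalAt_eq K P.S hgl
    have hw : mA A (jl i) (P.equiv.symm v) = mA A (jr i) (PK.char m) := by
      apply (P.coordAt_bijective (jl i)).injective
      rw [P.coordAt_mA, AlgEquiv.apply_symm_apply]
      exact hv
    let inc : A →ₗ[R] LinearMap.range ι := ι.rangeRestrict
    refine ⟨LinearMap.lTensor P.S inc (P.equiv.symm v), ?_⟩
    rw [← LinearMap.comp_apply, ← LinearMap.lTensor_comp,
      show (LinearMap.range ι).subtype.comp inc = ι from rfl]
    have e1 : ∀ w : P.S ⊗[R] A,
        TensorProduct.assoc R P.S K A (mA A (jl i) w) = LinearMap.lTensor P.S ι w := fun w => by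
      induction w using TensorProduct.induction_on with
      | zero => simp
      | add a b ha hb => simp only [map_add, ha, hb]
      | tmul s a =>
        show TensorProduct.assoc R P.S K A ((s ⊗ₜ[R] (1 : K)) ⊗ₜ[R] a) = _
        exact TensorProduct.assoc_tmul _ _ _
    have e2 : ∀ z : K ⊗[R] A,
        TensorProduct.assoc R P.S K A (mA A (jr i) z) = (1 : P.S) ⊗ₜ[R] z := fun z => by
      induction z using TensorProduct.induction_on with
      | zero => simp
      | add a b ha hb => simp only [map_add, TensorProduct.tmul_add, ha, hb]
      | tmul s a =>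
        show TensorProduct.assoc R P.S K A (((1 : P.S) ⊗ₜ[R] s) ⊗ₜ[R] a) = _
        exact TensorProduct.assoc_tmul _ _ _
    rw [← e1, hw, e2]
  choose g hg using fun m => LinearMap.mem_range.mp (hmem m)
  have hgl : ∀ m, IsGroupLikeElem R (g m) := fun m => by
    have h := PK.isGroupLike_char m
    rw [← hg m] at h
    refine ⟨IsFractionRing.injective R K ?_, ?_⟩
    · have h1 := h.counit_eq_one
      rw [show ι (g m) = (1 : K) ⊗ₜ[R] g m from rfl, TensorProduct.counit_tmul] at h1
      rw [map_one]
      simpa [Algebra.smul_def] using h1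
    · have hinj : Function.Injective fun y : A ⊗[R] A => (1 : K) ⊗ₜ[R] y := fun a b hab => by
        have hinj := Module.Flat.rTensor_preserves_injective_linearMap (M := A ⊗[R] A)
          (Algebra.linearMap R K) (IsFractionRing.injective R K)
        refine (TensorProduct.lid R (A ⊗[R] A)).symm.injective (hinj ?_)
        simpa using hab
      refine hinj ((AlgebraTensorModule.distribBaseChange R K A A).injective ?_)
      have e : ∀ y : A ⊗[R] A, AlgebraTensorModule.distribBaseChange R K A A (1 ⊗ₜ y) =
          sq K (SemiBialgHom.baseChange R K A).toAlgHom y := by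
        intro y
        induction y using TensorProduct.induction_on with
        | zero => simp
        | add x y hx hy => simp only [TensorProduct.tmul_add, map_add, hx, hy]
        | tmul p q => simp [SemiBialgHom.baseChange]
      rw [e, ← (SemiBialgHom.baseChange R K A).comul_comp, e, sq_tmul]
      exact h.comul_eq_tmul_self
  let g' : M →* A :=
    { toFun := g
      map_one' := hι (by rw [hg, map_one]; rfl)
      map_mul' := fun a b => hι (by
        rw [hg, map_mul, ← hg a, ← hg b]
        show _ = (1 : K) ⊗ₜ[R] (g a * g b)
        simp [ι]) }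
  let φ : MonoidAlgebra R M →ₐc[R] A := homOfGroupLike g' hgl
  refine isDiag_of_equiv (BialgEquiv.ofBijective φ (c.bijective_of_bijective g' hgl fun i => ?_)).symm
  let P := c.split i
  let φi : MonoidAlgebra P.S M →ₐc[P.S] MonoidAlgebra P.S P.M :=
    homOfGroupLike (P.hom.toAlgHom.toRingHom.toMonoidHom.comp g') fun m => P.hom.isGroupLike (hgl m)
  show Function.Bijective φi
  let D := BialgEquiv.ofBijective _ (PK.coordAt_bijective (jr i))
  let Cc := BialgEquiv.ofBijective _ (P.coordAt_bijective (jl i))
  let Ψ : MonoidAlgebra (T i) M ≃ₐc[T i] MonoidAlgebra (T i) P.M := D.symm.trans Cc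
  have hD : ∀ m, D ((1 : T i) ⊗ₜ[R] g m) = MonoidAlgebra.single m 1 := fun m => by
    rw [← PK.coordAt_char (jr i) m, ← hg m]
    show PK.coordAt (jr i) _ = PK.coordAt (jr i) _
    congr 1
  have hcomm : ∀ x : MonoidAlgebra P.S M,
      evalAt (jl i : P.S →+* T i) (φi x) = Ψ (evalAt (jl i : P.S →+* T i) x) := by
    intro x
    induction x using MonoidAlgebra.induction_linear with
    | zero => simp
    | add a b ha hb => simp only [map_add, ha, hb]
    | single m r =>
      have e1 : Ψ (MonoidAlgebra.single m (1 : T i)) = evalAt (jl i : P.S →+* T i) (P.hom.toAlgHom (g m)) := by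
        show Cc (D.symm _) = _
        rw [← hD, BialgEquiv.symm_apply_apply]
        exact P.coordAt_one_tmul (jl i) (g m)
      rw [evalAt_single]
      have e2 : MonoidAlgebra.single m ((jl i : P.S →+* T i) r) = (jl i r) • MonoidAlgebra.single m (1 : T i) := by
        simp [MonoidAlgebra.smul_single]
      rw [e2, map_smul, e1]
      show evalAt _ (φi (MonoidAlgebra.single m r)) = _
      rw [show φi (MonoidAlgebra.single m r) = r • P.hom.toAlgHom (g m) from homOfGroupLike_single _ _ _ _]
      ext n
      simp [coeff_evalAt, MonoidAlgebra.coeff_smul]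
  refine ⟨fun x y h => hev i M (EquivLike.injective Ψ ((hcomm x).symm.trans ((congrArg _ h).trans (hcomm y)))), fun y => ?_⟩
  induction y using MonoidAlgebra.induction_linear with
  | zero => exact ⟨0, map_zero _⟩
  | add a b ha hb =>
    obtain ⟨x, rfl⟩ := ha
    obtain ⟨z, rfl⟩ := hb
    exact ⟨x + z, map_add _ _ _⟩
  | single n r =>
    have hu : IsGroupLikeElem (T i) (Ψ.symm (MonoidAlgebra.single n 1)) :=
      (isGroupLike_single (S := T i) n).map Ψ.symm
    obtain ⟨v, hv⟩ := exists_evalAt_eq K P.S hu
    refine ⟨r • v, ?_⟩
    rw [map_smul]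
    have h1 : φi v = MonoidAlgebra.single n 1 := hev i P.M (by
      rw [hcomm, evalAt_single, map_one]
      exact (congrArg Ψ hv).trans (Ψ.apply_symm_apply _))
    rw [h1, MonoidAlgebra.smul_single, smul_eq_mul, _root_.mul_one]

end Groth.Agent.MultTypeLib
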