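import Groth.Agent.MultTypeLib.Coord
import Groth.Agent.MultTypeLib.Artin
import Groth.Agent.MultTypeLib.Local
import Groth.Agent.S2969
import Mathlib.FieldTheory.PrimitiveElement
import Mathlib.FieldTheory.Normal.Basic
import Mathlib.FieldTheory.IsAlgClosed.AlgebraicClosure
import Mathlib.RingTheory.TensorProduct.Free

/-!
# The field of definition of the characters of a group of multiplicative type over a field

The coordinates of the group-like elements over an algebraic closure generate a finite separable extension over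
which the group splits and which embeds, in as many ways as its degree, into every splitting field.
-/

universe u

open WithConv TensorProduct Coalgebra Bialgebra

noncomputable section

namespace Groth.Agent.MultTypeLib

set_option maxHeartbeats 1000000
set_option synthInstance.maxHeartbeats 100000

variable {K : Type u} [Field K] {B : Type u} [CommRing B] [HopfAlgebra K B]

/-- Over a splitting field inside a field every group-like element is a character. -/
theorem exists_char_eq (P : Split K B) {Ω : Type u} [Field Ω] [Algebra K Ω] (τ : P.S →ₐ[K] Ω) {z : Ω ⊗[K] B}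
    (hz : IsGroupLikeElem Ω z) : ∃ m, mA B τ (P.char m) = z := by
  obtain ⟨m, hm⟩ := exists_single_of_field (hz.map (P.coordAt τ))
  exact ⟨m, (P.coordAt_bijective τ).injective ((P.coordAt_char τ m).trans hm)⟩

/-- The coordinates of an image lie in the image. -/
theorem repr_mA_mem {ι : Type u} (b : Module.Basis ι K B) {E Ω : Type u} [CommRing E] [Algebra K E] [CommRing Ω]
    [Algebra K Ω] (τ : E →ₐ[K] Ω) (w : E ⊗[K] B) (j : ι) :
    (Algebra.TensorProduct.basis Ω b).repr (mA B τ w) j ∈ τ.range := by
  induction w using TensorProduct.induction_on with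
  | zero => simp
  | add x y hx hy =>
    rw [map_add, map_add, Finsupp.add_apply]
    exact add_mem hx hy
  | tmul e a =>
    rw [Algebra.TensorProduct.map_tmul, AlgHom.id_apply, Algebra.TensorProduct.basis_repr_tmul]
    refine ⟨e * algebraMap K E (b.repr a j), ?_⟩
    simp

/-- Split over a field, with characters of coordinates in a subfield, the group splits over the subfield. -/
theorem isDiag_of_coords {ι : Type u} (b : Module.Basis ι K B) {L Ω : Type u} [Field L] [Field Ω] [Algebra K L]
    [Algebra K Ω] [Algebra L Ω] [IsScalarTower K L Ω] (hΩ : SGA3b.IsDiag Ω (Ω ⊗[K] B))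
    (hc : ∀ z : Ω ⊗[K] B, IsGroupLikeElem Ω z → ∀ j,
      (Algebra.TensorProduct.basis Ω b).repr z j ∈ Set.range (algebraMap L Ω)) :
    SGA3b.IsDiag L (L ⊗[K] B) := by
  classical
  let bΩ := Algebra.TensorProduct.basis Ω b
  let eT := baseChangeTrans (R := K) L Ω B
  obtain ⟨M, _, hom, e, he⟩ := exists_split_of_isDiag (R := L) (A := L ⊗[K] B) Ω (isDiag_congr eT hΩ)
  let Q : Split L (L ⊗[K] B) := { S := Ω, M := M, hom := hom, equiv := e, equiv_tmul := he }
  have : Module.FaithfullyFlat L Q.S := inferInstanceAs (Module.FaithfullyFlat L Ω)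
  let c : Cover L (L ⊗[K] B) := Cover.single Q
  have hmem : ∀ m : M, ∃ w : L ⊗[K] B, Q.char m = (1 : Ω) ⊗ₜ[L] w := by
    intro m
    let z : Ω ⊗[K] B := eT.symm (Q.char m)
    have hz : IsGroupLikeElem Ω z := (Q.isGroupLike_char m).map eT.symm
    choose x hx using hc z hz
    refine ⟨∑ j ∈ (bΩ.repr z).support, x j ⊗ₜ[K] b j, ?_⟩
    rw [show Q.char m = eT z from (eT.apply_symm_apply _).symm]
    conv_lhs => rw [← bΩ.linearCombination_repr z, Finsupp.linearCombination_apply, Finsupp.sum]
    rw [map_sum, TensorProduct.tmul_sum]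
    refine Finset.sum_congr rfl fun j _ => ?_
    rw [Algebra.TensorProduct.basis_apply, TensorProduct.smul_tmul', smul_eq_mul, _root_.mul_one]
    show (SemiBialgHom.comp _ _).extend ((bΩ.repr z j) ⊗ₜ[K] b j) = _
    rw [SemiBialgHom.extend_tmul]
    show (bΩ.repr z j : Ω) • ((1 : Ω) ⊗ₜ[L] ((1 : L) ⊗ₜ[K] b j)) = _
    rw [TensorProduct.smul_tmul', smul_eq_mul, _root_.mul_one, ← hx j,
      show (x j ⊗ₜ[K] b j : L ⊗[K] B) = x j • ((1 : L) ⊗ₜ[K] b j) by
        rw [TensorProduct.smul_tmul', smul_eq_mul, _root_.mul_one],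
      ← TensorProduct.smul_tmul, Algebra.smul_def, _root_.mul_one]
  choose w hw using hmem
  refine isDiag_of_char_agree c M (fun _ => MulEquiv.refl M) fun m i i' => ?_
  show mA (L ⊗[K] B) (Algebra.TensorProduct.includeLeft : Ω →ₐ[L] Ω ⊗[L] Ω) (Q.char m) =
    mA (L ⊗[K] B) (Algebra.TensorProduct.includeRight : Ω →ₐ[L] Ω ⊗[L] Ω) (Q.char m)
  rw [hw, Algebra.TensorProduct.map_tmul, Algebra.TensorProduct.map_tmul, map_one, map_one]

/-- The splitting field generated by the characters. -/
theorem exists_field_of_definition (hft : Algebra.FiniteType K B) (h : SGA3b.IsMultType K B) :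
    ∃ (L : Type u) (_ : Field L) (_ : Algebra K L), Module.Finite K L ∧ Algebra.IsSeparable K L ∧
      SGA3b.IsDiag L (L ⊗[K] B) ∧
      ∀ (E : Type u) [Field E] [Algebra K E] [Module.Finite K E], SGA3b.IsDiag E (E ⊗[K] B) →
        Nat.card (L →ₐ[K] E) = Module.finrank K L := by
  classical
  let Ω := AlgebraicClosure K
  let b := Module.Free.chooseBasis K B
  let bΩ := Algebra.TensorProduct.basis Ω b
  let C : Set Ω := {x | ∃ z : Ω ⊗[K] B, IsGroupLikeElem Ω z ∧ ∃ j, bΩ.repr z j = x}
  let L : IntermediateField K Ω := IntermediateField.adjoin K C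
  have hle : ∀ (E : Type u) [Field E] [Algebra K E], SGA3b.IsDiag E (E ⊗[K] B) → ∀ τ : E →ₐ[K] Ω,
      L ≤ τ.fieldRange := by
    intro E _ _ hE τ
    obtain ⟨M, _, hom, e, he⟩ := exists_split_of_isDiag E hE
    let P : Split K B := { S := E, M := M, hom := hom, equiv := e, equiv_tmul := he }
    refine IntermediateField.adjoin_le_iff.mpr ?_
    rintro _ ⟨z, hz, j, rfl⟩
    obtain ⟨m, rfl⟩ := exists_char_eq P τ hz
    obtain ⟨x, hx⟩ := repr_mA_mem b τ (P.char m) j
    exact ⟨x, hx⟩
  obtain ⟨L₀, _, _, hfin, hsep, hft₀⟩ := S2969.result K B hft h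
  have hd₀ : SGA3b.IsDiag L₀ (L₀ ⊗[K] B) := by
    obtain ⟨M, iM, -, e⟩ := hft₀
    exact ⟨M, iM, e⟩
  let τ₀ : L₀ →ₐ[K] Ω := IsAlgClosed.lift
  let L₀' : IntermediateField K Ω := τ₀.fieldRange
  let e₀ : L₀ ≃ₐ[K] L₀' := AlgEquiv.ofInjectiveField τ₀
  haveI : Module.Finite K L₀' := Module.Finite.equiv e₀.toLinearEquiv
  haveI : Algebra.IsSeparable K L₀' := AlgEquiv.Algebra.isSeparable e₀
  have hL0 : L ≤ L₀' := hle L₀ hd₀ τ₀
  haveI : Module.Finite K L := Module.Finite.of_injective (IntermediateField.inclusion hL0).toLinearMap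
    (IntermediateField.inclusion hL0).injective
  haveI : Algebra.IsSeparable K L := Algebra.IsSeparable.of_algHom K L₀' (IntermediateField.inclusion hL0)
  refine ⟨L, inferInstance, inferInstance, ‹_›, ‹_›, ?_, fun E _ _ _ hE => ?_⟩
  · -- the group splits over `L`
    let _ : Algebra L₀ Ω := τ₀.toRingHom.toAlgebra
    have : IsScalarTower K L₀ Ω := IsScalarTower.of_algebraMap_eq fun r => (τ₀.commutes r).symm
    exact isDiag_of_coords b (isDiag_baseChange L₀ Ω hd₀) fun z hz j =>
      ⟨⟨_, IntermediateField.subset_adjoin K C ⟨z, hz, j, rfl⟩⟩, rfl⟩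
  · -- embeddings into a splitting field
    let τ : E →ₐ[K] Ω := IsAlgClosed.lift
    have hfac : ∀ (σ : L →ₐ[K] Ω) (x : L), σ x ∈ τ.fieldRange := by
      intro σ x
      let s : Ω →ₐ[K] Ω := σ.liftNormal Ω
      have hs : ∀ x : L, s x = σ x := fun x => σ.liftNormal_commutes Ω x
      let s' : Ω ≃ₐ[K] Ω := AlgEquiv.ofBijective s (Algebra.IsAlgebraic.algHom_bijective s)
      obtain ⟨e, he⟩ := hle E hE ((s'.symm : Ω →ₐ[K] Ω).comp τ) x.2
      refine ⟨e, ?_⟩
      rw [← hs x, ← he]
      exact (s'.apply_symm_apply _).symm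
    let F : (L →ₐ[K] E) → (L →ₐ[K] Ω) := fun σ => τ.comp σ
    have hF : Function.Bijective F := by
      refine ⟨fun a a' h => AlgHom.ext fun x => τ.injective (DFunLike.congr_fun h x), fun σ => ?_⟩
      choose g hg using fun x => hfac σ x
      refine ⟨{ toFun := g
                map_one' := τ.injective ((hg 1).trans (by rw [map_one, map_one]))
                map_mul' := fun x y => τ.injective ((hg _).trans (by rw [map_mul, map_mul]; rw [← hg x, ← hg y]))
                map_zero' := τ.injective ((hg 0).trans (by rw [map_zero, map_zero]))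
                map_add' := fun x y => τ.injective ((hg _).trans (by rw [map_add, map_add]; rw [← hg x, ← hg y]))
                commutes' := fun r => τ.injective ((hg _).trans ((σ.commutes r).trans (τ.commutes r).symm)) }, ?_⟩
      exact AlgHom.ext hg
    rw [Nat.card_congr (Equiv.ofBijective F hF), Nat.card_eq_fintype_card, AlgHom.card]

end Groth.Agent.MultTypeLib
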